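import Mathlib

/-!
Irreducible modules over `ZMod 2` of `3² : D₈`, in terms of generators.
-/

set_option autoImplicit false

namespace Cfsg.Agent.Lib.NineDihedral

variable {S M : Type*} [Group S] [Finite S] [AddCommGroup M] [Module (ZMod 2) M]

/-- Generators `e, f` of the normal subgroup and `r, t` of the dihedral group, as relations. -/
structure Gens (r t e f : S) : Prop where
  t2 : t * t = 1
  r4 : r * r * (r * r) = 1
  trt : t * r * t = r⁻¹
  e3 : e ^ 3 = 1
  re : r * e * r⁻¹ = f
  rf : r * f * r⁻¹ = e⁻¹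
  te : t * e * t = e
  tf : t * f * t = f⁻¹
  ef : e * f = f * e
  gen : Subgroup.closure ({e, f, r, t} : Set S) = ⊤

theorem add_self_zero (m : M) : m + m = 0 := by
  rw [← two_smul (ZMod 2) m, show (2 : ZMod 2) = 0 by decide, zero_smul]

theorem eq_of_add_eq_zero {a b : M} (h : a + b = 0) : a = b := by
  calc a = a + (b + b) := by rw [add_self_zero, add_zero]
    _ = a + b + b := by rw [add_assoc]
    _ = b := by rw [h, zero_add]

variable (ρ : Representation (ZMod 2) S M) {r t e f : S}

theorem rho_mul (a b : S) (m : M) : ρ (a * b) m = ρ a (ρ b m) := by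
  rw [map_mul]; rfl

theorem rho_one (m : M) : ρ 1 m = m := by rw [map_one]; rfl

/-- The main computation. -/
theorem core (G : Gens r t e f)
    (hirr : ∀ N : Submodule (ZMod 2) M, (∀ s : S, ∀ m ∈ N, ρ s m ∈ N) → N = ⊥ ∨ N = ⊤)
    (hfix : ∀ m : M, ρ e m = m → ρ f m = m → m = 0)
    (hne : ∃ m : M, m ≠ 0 ∧ ρ e m = m) :
    Nat.card M = 16 ∧ Nat.card {m : M // ρ t m = m ∧ ρ (r * r) m = m} ≠ 2 ∧
      Nat.card {m : M // ρ (r * t) m = m ∧ ρ (r * r) m = m} = 2 := by
  classical
  have hm := rho_mul ρ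
  have h1 := rho_one ρ
  set u := r * r * t with hu
  have hr' : r⁻¹ = r * (r * r) := by
    refine inv_eq_of_mul_eq_one_right ?_
    rw [← mul_assoc, ← G.r4]
  have htz : t * (r * r) = r * r * t := by
    calc t * (r * r) = (t * r * t) * (t * r * t) * t := by
          simp only [mul_assoc]; rw [G.t2]; simp only [mul_one]
          rw [← mul_assoc t t, G.t2, one_mul]
      _ = r⁻¹ * r⁻¹ * t := by rw [G.trt]
      _ = (r * r)⁻¹ * t := by rw [mul_inv_rev]
      _ = _ := by rw [inv_eq_of_mul_eq_one_right G.r4]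
  have hf3 : f ^ 3 = 1 := by
    rw [← G.re, conj_pow, G.e3, mul_one, mul_inv_cancel]
  have hze : r * r * e = e⁻¹ * (r * r) := by
    calc r * r * e = r * (r * e * r⁻¹) * r := by group
      _ = r * f * r⁻¹ * (r * r) := by rw [G.re]; group
      _ = _ := by rw [G.rf]
  have hzf : r * r * f = f⁻¹ * (r * r) := by
    calc r * r * f = r * (r * f * r⁻¹) * r := by group
      _ = (r * e * r⁻¹)⁻¹ * (r * r) := by rw [G.rf]; group
      _ = _ := by rw [G.re]
  have hte : t * e = e * t := by
    calc t * e = t * e * (t * t) := by rw [G.t2, mul_one]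
      _ = t * e * t * t := by group
      _ = _ := by rw [G.te]
  have htf : t * f = f⁻¹ * t := by
    calc t * f = t * f * (t * t) := by rw [G.t2, mul_one]
      _ = t * f * t * t := by group
      _ = _ := by rw [G.tf]
  have hef' : Commute e f := G.ef
  have hue : u * e = e⁻¹ * u := by
    rw [hu, mul_assoc, hte, ← mul_assoc, hze, mul_assoc]
  have huf : u * f = f * u := by
    rw [hu, mul_assoc, htf, ← mul_assoc]
    have : r * r * f⁻¹ = f * (r * r) := by
      calc r * r * f⁻¹ = f * (f⁻¹ * (r * r)) * f⁻¹ := by group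
        _ = f * (r * r * f) * f⁻¹ := by rw [hzf]
        _ = _ := by group
    rw [this, mul_assoc]
  have hut : u * t = t * u := by
    rw [hu, ← mul_assoc t, htz]
  have huu : u * u = 1 := by
    rw [hu]
    calc r * r * t * (r * r * t) = r * r * (t * (r * r)) * t := by simp only [mul_assoc]
      _ = r * r * (r * r) * (t * t) := by rw [htz]; simp only [mul_assoc]
      _ = 1 := by rw [G.r4, G.t2, one_mul]
  have htr : t * r = r * u := by
    calc t * r = t * r * t * t := by rw [mul_assoc (t * r), G.t2, mul_one]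
      _ = r * (r * r) * t := by rw [G.trt, hr']
      _ = _ := by rw [hu]; simp only [mul_assoc]
  have hz : r * r = t * u := by
    rw [hu, ← mul_assoc, htz, mul_assoc, G.t2, mul_one]
  have hfr : f * r = r * e := by rw [← G.re]; group
  have her : e * r = r * f⁻¹ := by
    calc e * r = (e⁻¹)⁻¹ * r := by rw [inv_inv]
      _ = _ := by rw [← G.rf]; group
  -- inverses
  have hinvfix : ∀ (g : S) (m : M), ρ g m = m → ρ g⁻¹ m = m := fun g m h => by
    conv_lhs => rw [← h]
    rw [← hm, inv_mul_cancel, h1]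
  -- the key closure argument
  have key : ∀ P : Submodule (ZMod 2) M, (∀ m ∈ P, ρ e m = m) → (∀ m ∈ P, ρ f m ∈ P) →
      (∀ m ∈ P, ρ t m ∈ P) → (∀ m ∈ P, ρ u m ∈ P) → P ≠ ⊥ →
      (∀ m, ρ e m = m → m ∈ P) ∧ P ⊔ P.map (ρ r) = ⊤ := by
    intro P hPe hPf hPt hPu hP
    set U := P ⊔ P.map (ρ r) with hU
    have hgen : ∀ g ∈ ({e, f, r, t} : Set S), ∀ m ∈ U, ρ g m ∈ U := by
      intro g hg m hmU
      obtain ⟨a, ha, _, ⟨b, hb, rfl⟩, rfl⟩ := Submodule.mem_sup.mp hmU
      rw [map_add]
      rcases hg with rfl | rfl | rfl | rfl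
      · refine U.add_mem (Submodule.mem_sup_left (by rw [hPe a ha]; exact ha))
          (Submodule.mem_sup_right ⟨ρ (f * f) b, by rw [hm]; exact hPf _ (hPf _ hb), ?_⟩)
        rw [← hm, ← hm, her]
        congr 2
        rw [inv_eq_of_mul_eq_one_right]
        simpa [pow_succ, mul_assoc] using hf3
      · refine U.add_mem (Submodule.mem_sup_left (hPf a ha))
          (Submodule.mem_sup_right ⟨b, hb, ?_⟩)
        rw [← hm, hfr, hm, hPe b hb]
      · refine U.add_mem (Submodule.mem_sup_right ⟨a, ha, rfl⟩) (Submodule.mem_sup_left ?_)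
        rw [← hm, hz, hm]
        exact hPt _ (hPu b hb)
      · refine U.add_mem (Submodule.mem_sup_left (hPt a ha))
          (Submodule.mem_sup_right ⟨ρ u b, hPu b hb, ?_⟩)
        rw [← hm, ← hm, htr]
    have hall : ∀ s : S, ∀ m ∈ U, ρ s m ∈ U := by
      intro s
      have hs : s ∈ Subgroup.closure ({e, f, r, t} : Set S) := by rw [G.gen]; trivial
      induction hs using Subgroup.closure_induction with
      | mem g hg => exact hgen g hg
      | one => intro m hmU; rwa [h1]
      | mul a b _ _ ha hb => intro m hmU; rw [hm]; exact ha _ (hb _ hmU)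
      | inv a _ ha =>
        have hpow : ∀ n : ℕ, ∀ m ∈ U, ρ (a ^ n) m ∈ U := by
          intro n
          induction n with
          | zero => intro m hmU; rw [pow_zero, h1]; exact hmU
          | succ n ihn => intro m hmU; rw [pow_succ, hm]; exact ihn _ (ha _ hmU)
        have : a⁻¹ = a ^ (orderOf a - 1) := by
          refine inv_eq_of_mul_eq_one_right ?_
          rw [← pow_succ', Nat.sub_add_cancel (orderOf_pos a), pow_orderOf_eq_one]
        rw [this]; exact hpow _
    have htop : U = ⊤ := by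
      rcases hirr U hall with h | h
      · exact absurd (eq_bot_iff.mpr (le_sup_left.trans h.le)) hP
      · exact h
    refine ⟨fun m hme => ?_, htop⟩
    have hmU : m ∈ P ⊔ P.map (ρ r) := by rw [← hU, htop]; trivial
    obtain ⟨a, ha, _, ⟨b, hb, rfl⟩, hab⟩ := Submodule.mem_sup.mp hmU
    have he' : ρ e (ρ r b) = ρ r b := by
      have := hme
      rw [← hab, map_add, hPe a ha, add_right_inj] at this
      exact this
    have hf' : ρ f (ρ r b) = ρ r b := by rw [← hm, hfr, hm, hPe b hb]
    rw [hfix _ he' hf', add_zero] at hab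
    rwa [← hab]
  -- step 1: `u` fixes `C(e)`
  let P1 : Submodule (ZMod 2) M :=
    { carrier := {m | ρ e m = m ∧ ρ u m = m}
      zero_mem' := ⟨map_zero _, map_zero _⟩
      add_mem' := fun {a b} ha hb => ⟨by rw [map_add, ha.1, hb.1], by rw [map_add, ha.2, hb.2]⟩
      smul_mem' := fun c a ha => ⟨by rw [map_smul, ha.1], by rw [map_smul, ha.2]⟩ }
  have hP1 : P1 ≠ ⊥ := by
    obtain ⟨m, hm0, hme⟩ := hne
    rw [Submodule.ne_bot_iff]
    have hum : ρ e (ρ u m) = ρ u m := by
      have : e * u = u * e⁻¹ := by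
        calc e * u = (u * u) * e * u := by rw [huu, one_mul]
          _ = u * (u * e) * u := by simp only [mul_assoc]
          _ = u * e⁻¹ * (u * u) := by rw [hue]; simp only [mul_assoc]
          _ = _ := by rw [huu, mul_one]
      rw [← hm, this, hm, hinvfix e m hme]
    by_cases hu' : ρ u m = m
    · exact ⟨m, ⟨hme, hu'⟩, hm0⟩
    · refine ⟨m + ρ u m, ⟨by rw [map_add, hme, hum], ?_⟩, fun h0 => hu' (eq_of_add_eq_zero h0).symm⟩
      rw [map_add, ← hm, huu, h1, add_comm]
  obtain ⟨hW1, -⟩ := key P1 (fun m h => h.1)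
    (fun m h => ⟨by rw [← hm, hef'.eq, hm, h.1], by rw [← hm, huf, hm, h.2]⟩)
    (fun m h => ⟨by rw [← hm, ← hte, hm, h.1], by rw [← hm, hut, hm, h.2]⟩)
    (fun m h => by rw [h.2]; exact h) hP1
  have huW : ∀ m, ρ e m = m → ρ u m = m := fun m h => (hW1 m h).2
  -- step 2: a fixed vector of `t`
  obtain ⟨w, hw0, hwe, hwt⟩ : ∃ w : M, w ≠ 0 ∧ ρ e w = w ∧ ρ t w = w := by
    obtain ⟨m, hm0, hme⟩ := hne
    by_cases ht' : ρ t m = m
    · exact ⟨m, hm0, hme, ht'⟩
    · refine ⟨m + ρ t m, fun h0 => ht' (eq_of_add_eq_zero h0).symm, ?_, ?_⟩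
      · rw [map_add, hme, ← hm, ← hte, hm, hme]
      · rw [map_add, ← hm, G.t2, h1, add_comm]
  set v := ρ f w with hv
  have hve : ρ e v = v := by rw [hv, ← hm, hef'.eq, hm, hwe]
  have hvne : v ≠ w := fun h => hw0 (hfix w hwe h)
  have hv0 : v ≠ 0 := fun h => hw0 (by
    have := congrArg (ρ f⁻¹) h
    rwa [hv, ← hm, inv_mul_cancel, h1, map_zero] at this)
  have hfv : ρ f v = w + v := by
    have h0 : w + v + ρ f v = 0 := by
      refine hfix _ ?_ ?_
      · rw [map_add, map_add, hwe, hve, ← hm e f, hef'.eq, hm, hve]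
      · rw [map_add, map_add, ← hv]
        have : ρ f (ρ f v) = w := by
          rw [hv, ← hm, ← hm, show f * f * f = f ^ 3 by simp [pow_succ, mul_assoc], hf3, h1]
        rw [this]; abel
    exact (eq_of_add_eq_zero h0).symm
  have htv : ρ t v = w + v := by
    rw [hv, ← hm, htf, hm, hwt]
    have : f⁻¹ = f * f := inv_eq_of_mul_eq_one_right (by simpa [pow_succ, mul_assoc] using hf3)
    rw [this, hm]; exact hfv
  let P2 : Submodule (ZMod 2) M := Submodule.span (ZMod 2) {w, v}
  have hw2 : w ∈ P2 := Submodule.subset_span (by simp)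
  have hv2 : v ∈ P2 := Submodule.subset_span (by simp)
  have hspan : ∀ (g : S) (a b : M), ρ g w = a → ρ g v = b → a ∈ P2 → b ∈ P2 →
      ∀ m ∈ P2, ρ g m ∈ P2 := by
    intro g a b ha hb ha' hb' m hm2
    obtain ⟨c, d, rfl⟩ := Submodule.mem_span_pair.mp hm2
    rw [map_add, map_smul, map_smul, ha, hb]
    exact P2.add_mem (P2.smul_mem c ha') (P2.smul_mem d hb')
  have hP2e : ∀ m ∈ P2, ρ e m = m := by
    intro m hm2
    obtain ⟨c, d, rfl⟩ := Submodule.mem_span_pair.mp hm2
    rw [map_add, map_smul, map_smul, hwe, hve]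
  obtain ⟨hW2, htop⟩ := key P2 hP2e
    (hspan f v (w + v) rfl hfv hv2 (P2.add_mem hw2 hv2))
    (hspan t w (w + v) hwt htv hw2 (P2.add_mem hw2 hv2))
    (fun m hm2 => by rw [huW m (hP2e m hm2)]; exact hm2)
    (by rw [Submodule.ne_bot_iff]; exact ⟨w, hw2, hw0⟩)
  have hc2 : ∀ c : ZMod 2, c = 0 ∨ c = 1 := by decide
  have hindep : ∀ a b : ZMod 2, a • w + b • v = 0 → a = 0 ∧ b = 0 := by
    intro a b h0
    rcases hc2 a with rfl | rfl <;> rcases hc2 b with rfl | rfl <;>
      simp only [zero_smul, one_smul, zero_add, add_zero] at h0 ⊢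
    · exact ⟨trivial, trivial⟩
    · exact absurd h0 hv0
    · exact absurd h0 hw0
    · exact absurd (eq_of_add_eq_zero h0).symm hvne
  have hdec : ∀ m : M, ∃ x y : M, ρ e x = x ∧ ρ e y = y ∧ m = x + ρ r y := by
    intro m
    have hmU : m ∈ P2 ⊔ P2.map (ρ r) := by rw [htop]; trivial
    obtain ⟨a, ha, _, ⟨b, hb, rfl⟩, hab⟩ := Submodule.mem_sup.mp hmU
    exact ⟨a, b, hP2e a ha, hP2e b hb, hab.symm⟩
  have hzero : ∀ x y : M, ρ e x = x → ρ e y = y → x + ρ r y = 0 → x = 0 ∧ y = 0 := by
    intro x y hx hy h0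
    have hxr : x = ρ r y := eq_of_add_eq_zero h0
    have hx0 : x = 0 := hfix x hx (by rw [hxr, ← hm, hfr, hm, hy])
    refine ⟨hx0, ?_⟩
    have := congrArg (ρ r⁻¹) (hxr.symm.trans hx0)
    rwa [← hm, inv_mul_cancel, h1, map_zero] at this
  have htfix : ∀ x : M, ρ e x = x → ρ t x = x → x = 0 ∨ x = w := by
    intro x hx hxt
    obtain ⟨c, d, rfl⟩ := Submodule.mem_span_pair.mp (hW2 x hx)
    rcases hc2 c with rfl | rfl <;> rcases hc2 d with rfl | rfl <;>
      simp only [zero_smul, one_smul, zero_add, add_zero, map_add, hwt, htv] at hxt ⊢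
    · exact Or.inl trivial
    · exact absurd ((add_eq_right.mp hxt)) hw0
    · exact Or.inr trivial
    · exfalso
      rw [← add_assoc, add_self_zero, zero_add] at hxt
      exact hw0 (add_right_cancel (b := v) (by rw [zero_add]; exact hxt.symm))
  refine ⟨?_, ?_, ?_⟩
  · -- sixteen elements
    let g : (ZMod 2 × ZMod 2) × (ZMod 2 × ZMod 2) → M := fun q =>
      q.1.1 • w + q.1.2 • v + ρ r (q.2.1 • w + q.2.2 • v)
    have hg : Function.Bijective g := by
      constructor
      · rintro ⟨⟨a, b⟩, c, d⟩ ⟨⟨a', b'⟩, c', d'⟩ heq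
        have h0 : ((a - a') • w + (b - b') • v) + ρ r ((c - c') • w + (d - d') • v) = 0 := by
          simp only [g, map_add, map_smul, sub_smul, map_sub] at heq ⊢
          rw [← sub_eq_zero] at heq
          rw [← heq]; abel
        have hmem : ∀ p q : ZMod 2, ρ e (p • w + q • v) = p • w + q • v := fun p q => by
          rw [map_add, map_smul, map_smul, hwe, hve]
        obtain ⟨h2, h3⟩ := hzero _ _ (hmem _ _) (hmem _ _) h0
        obtain ⟨e1, e2⟩ := hindep _ _ h2
        obtain ⟨e3, e4⟩ := hindep _ _ h3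
        rw [sub_eq_zero] at e1 e2 e3 e4
        rw [e1, e2, e3, e4]
      · intro m
        obtain ⟨x, y, hx, hy, rfl⟩ := hdec m
        obtain ⟨a, b, rfl⟩ := Submodule.mem_span_pair.mp (hW2 x hx)
        obtain ⟨c, d, rfl⟩ := Submodule.mem_span_pair.mp (hW2 y hy)
        exact ⟨((a, b), c, d), rfl⟩
    rw [← Nat.card_eq_of_bijective g hg]
    simp [Nat.card_eq_fintype_card]
  · -- the bad four-group
    haveI : Finite M := by
      refine Finite.of_surjective (fun q : (ZMod 2 × ZMod 2) × (ZMod 2 × ZMod 2) =>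
        q.1.1 • w + q.1.2 • v + ρ r (q.2.1 • w + q.2.2 • v)) fun m => ?_
      obtain ⟨x, y, hx, hy, rfl⟩ := hdec m
      obtain ⟨a, b, rfl⟩ := Submodule.mem_span_pair.mp (hW2 x hx)
      obtain ⟨c, d, rfl⟩ := Submodule.mem_span_pair.mp (hW2 y hy)
      exact ⟨((a, b), c, d), rfl⟩
    intro hcard
    obtain ⟨p, q, -, hpq⟩ := Nat.card_eq_two_iff.mp hcard
    have hzw : ρ (r * r) w = w := by rw [hz, hm, huW w hwe, hwt]
    have hA : ρ t (ρ r w) = ρ r w := by rw [← hm, htr, hm, huW w hwe]
    have hB : ρ (r * r) (ρ r w) = ρ r w := by rw [← hm, mul_assoc, hm, hzw]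
    have hall2 : ∀ z : {m : M // ρ t m = m ∧ ρ (r * r) m = m}, z = p ∨ z = q := fun z => by
      simpa using hpq.ge (Set.mem_univ z)
    have k0 := hall2 ⟨0, map_zero _, map_zero _⟩
    have k1 := hall2 ⟨w, hwt, hzw⟩
    have k2 := hall2 ⟨ρ r w, hA, hB⟩
    have hrw : ρ r w ≠ w := fun h => hw0 (hzero w w hwe hwe (by rw [h, add_self_zero])).1
    have hrw0 : ρ r w ≠ 0 := fun h => hw0 (hzero 0 w (map_zero _) hwe (by rw [h, add_zero])).2
    rcases k0 with a | a <;> rcases k1 with b | b <;> rcases k2 with c | c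
    all_goals first
      | exact hw0 (congrArg Subtype.val (b.trans a.symm))
      | exact hrw0 (congrArg Subtype.val (c.trans a.symm))
      | exact hrw (congrArg Subtype.val (c.trans b.symm))
  · -- the good four-group
    have hset : {m : M | ρ (r * t) m = m ∧ ρ (r * r) m = m} = {0, w + ρ r w} := by
      have hzy : ∀ y : M, ρ e y = y → ρ (r * r) (ρ r y) = ρ r (ρ t y) := by
        intro y hy
        rw [← hm, mul_assoc, hz, hm, hm, huW y hy]
      ext m
      constructor
      · rintro ⟨hrt, hzz⟩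
        obtain ⟨x, y, hx, hy, rfl⟩ := hdec m
        rw [map_add, hzy y hy, hz, hm, huW x hx] at hzz
        have hE : ∀ x : M, ρ e x = x → ρ e (ρ t x) = ρ t x := fun x hx => by
          rw [← hm, ← hte, hm, hx]
        have h0 : (ρ t x - x) + ρ r (ρ t y - y) = 0 := by
          rw [map_sub]
          rw [← sub_eq_zero] at hzz
          rw [← hzz]; abel
        obtain ⟨k1, k2⟩ := hzero _ _ (by rw [map_sub, hE x hx, hx]) (by rw [map_sub, hE y hy, hy]) h0
        rw [sub_eq_zero] at k1 k2
        have hrr : ρ (r * r) y = y := by rw [hz, hm, huW y hy, k2]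
        rw [map_add, hm, k1, ← hm (r * t) r, mul_assoc, htr, hm, hm, huW y hy, ← hm r r, hrr] at hrt
        have h0' : (y - x) + ρ r (x - y) = 0 := by
          rw [map_sub]
          rw [← sub_eq_zero] at hrt
          rw [← hrt]; abel
        obtain ⟨k3, -⟩ := hzero _ _ (by rw [map_sub, hx, hy]) (by rw [map_sub, hx, hy]) h0'
        rw [sub_eq_zero] at k3
        subst k3
        rcases htfix _ hx k1 with rfl | rfl
        · simp
        · simp
      · rintro (rfl | rfl)
        · exact ⟨map_zero _, map_zero _⟩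
        · have hrr : ρ (r * r) w = w := by rw [hz, hm, huW w hwe, hwt]
          constructor
          · rw [map_add, hm, hwt, ← hm (r * t) r, mul_assoc, htr, hm, hm, huW w hwe, ← hm r r, hrr,
              add_comm]
          · rw [map_add, hrr, hzy w hwe, hwt]
    have : Nat.card {m : M // ρ (r * t) m = m ∧ ρ (r * r) m = m} =
        ({0, w + ρ r w} : Set M).ncard := by rw [← hset]; rfl
    rw [this, Set.ncard_pair]
    exact fun h => hw0 (hzero w w hwe hwe h.symm).1

end Cfsg.Agent.Lib.NineDihedral
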