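import Mathlib
import Cfsg.Agent.Lib.NineDihedral.Module

/-!
The faithful irreducible modules of `3² : D₈` over `ZMod 2`.
-/

set_option autoImplicit false

namespace Cfsg.Agent.Lib.NineDihedral

open Subgroup

variable {S : Type*} [Group S]

/-- The four-group `{1, z, x, z * x}`. -/
def four (z x : S) (hz : z * z = 1) (hx : x * x = 1) (hc : z * x = x * z) : Subgroup S where
  carrier := {g | g = 1 ∨ g = z ∨ g = x ∨ g = z * x}
  one_mem' := Or.inl rfl
  inv_mem' := by
    have hz' : z⁻¹ = z := inv_eq_of_mul_eq_one_right hz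
    have hx' : x⁻¹ = x := inv_eq_of_mul_eq_one_right hx
    rintro g (rfl | rfl | rfl | rfl)
    · exact Or.inl inv_one
    · exact Or.inr (Or.inl hz')
    · exact Or.inr (Or.inr (Or.inl hx'))
    · exact Or.inr (Or.inr (Or.inr (by rw [mul_inv_rev, hz', hx', hc])))
  mul_mem' := by
    have h1 : x * (z * x) = z := by rw [hc, ← mul_assoc, hx, one_mul]
    have h2 : z * (z * x) = x := by rw [← mul_assoc, hz, one_mul]
    have h3 : z * x * z = x := by rw [hc, mul_assoc, hz, mul_one]
    have h4 : z * x * x = z := by rw [mul_assoc, hx, mul_one]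
    have h5 : z * x * (z * x) = 1 := by rw [← mul_assoc, h3, hx]
    rintro g h (rfl | rfl | rfl | rfl) (rfl | rfl | rfl | rfl) <;>
      simp only [Set.mem_setOf_eq, one_mul, mul_one, hz, hx, h1, h2, h3, h4, h5, ← hc] <;>
      simp

theorem mem_four {z x : S} {hz : z * z = 1} {hx : x * x = 1} {hc : z * x = x * z} {g : S} :
    g ∈ four z x hz hx hc ↔ g = 1 ∨ g = z ∨ g = x ∨ g = z * x := Iff.rfl

theorem card_four {z x : S} (hz : z * z = 1) (hx : x * x = 1) (hc : z * x = x * z)
    (hz1 : z ≠ 1) (hx1 : x ≠ 1) (hxz : x ≠ z) : Nat.card (four z x hz hx hc) = 4 := by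
  classical
  have h : ((four z x hz hx hc : Subgroup S) : Set S) = {1, z, x, z * x} := by
    ext g; simp [mem_four]
  have hne : z * x ≠ 1 := fun h => hxz (by
    rw [← inv_eq_of_mul_eq_one_right h, inv_eq_of_mul_eq_one_right hz])
  rw [← SetLike.coe_sort_coe, h, Nat.card_coe_set_eq]
  rw [Set.ncard_insert_of_notMem (by simp [hz1.symm, hx1.symm, hne.symm]) (by simp),
    Set.ncard_insert_of_notMem (by simp [hxz.symm, hx1]) (by simp),
    Set.ncard_pair (by simp [hz1])]

variable {M : Type*} [AddCommGroup M] [Module (ZMod 2) M] [Finite M] [Nontrivial M] [Finite S]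
  (ρ : Representation (ZMod 2) S M)

/-- The fixed points of a four-group. -/
theorem card_fixed_four {z x : S} (hz : z * z = 1) (hx : x * x = 1) (hc : z * x = x * z) :
    Nat.card {m : M // ∀ b ∈ four z x hz hx hc, ρ b m = m} =
      Nat.card {m : M // ρ x m = m ∧ ρ z m = m} := by
  refine Nat.card_congr (Equiv.subtypeEquivRight fun m => ⟨fun h => ⟨?_, ?_⟩, ?_⟩)
  · exact h x (Or.inr (Or.inr (Or.inl rfl)))
  · exact h z (Or.inr (Or.inl rfl))
  · rintro ⟨h1, h2⟩ b (rfl | rfl | rfl | rfl)
    · exact rho_one ρ m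
    · exact h2
    · exact h1
    · rw [rho_mul, h1, h2]

/-- The module has order 16, and exactly one of the two four-groups has two fixed points. -/
theorem dichotomy {r t e f : S} (G : Gens r t e f)
    (hirr : ∀ N : Submodule (ZMod 2) M, (∀ s : S, ∀ m ∈ N, ρ s m ∈ N) → N = ⊥ ∨ N = ⊤)
    (hfix : ∀ m : M, ρ e m = m → ρ f m = m → m = 0) :
    Nat.card M = 16 ∧
      (Nat.card {m : M // ρ (r * t) m = m ∧ ρ (r * r) m = m} = 2 ∧
          Nat.card {m : M // ρ t m = m ∧ ρ (r * r) m = m} ≠ 2 ∨
        Nat.card {m : M // ρ t m = m ∧ ρ (r * r) m = m} = 2 ∧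
          Nat.card {m : M // ρ (r * t) m = m ∧ ρ (r * r) m = m} ≠ 2) := by
  classical
  by_cases hA : ∃ m : M, m ≠ 0 ∧ ρ e m = m
  · obtain ⟨h1, h2, h3⟩ := core ρ G hirr hfix hA
    exact ⟨h1, Or.inl ⟨h3, h2⟩⟩
  have hef' : Commute e f := G.ef
  have hm := rho_mul ρ
  have h1' := rho_one ρ
  have hf3 : f ^ 3 = 1 := by rw [← G.re, conj_pow, G.e3, mul_one, mul_inv_cancel]
  have hrt : r * t * (r * t) = 1 := by
    calc r * t * (r * t) = r * (t * r * t) := by group
      _ = 1 := by rw [G.trt, mul_inv_cancel]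
  have hrt' : (r * t)⁻¹ = r * t := inv_eq_of_mul_eq_one_right hrt
  have ht' : t⁻¹ = t := inv_eq_of_mul_eq_one_right G.t2
  have hr2 : r⁻¹ = r * (r * r) := by
    refine inv_eq_of_mul_eq_one_right ?_
    rw [← mul_assoc, ← G.r4]
  have htef : t * (e * f) * t = e * f⁻¹ := by
    calc t * (e * f) * t = (t * e * t) * (t * f * t) := by
          calc t * (e * f) * t = t * e * 1 * f * t := by group
            _ = t * e * (t * t) * f * t := by rw [G.t2]
            _ = _ := by group
      _ = _ := by rw [G.te, G.tf]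
  have htfe : t * (f * e⁻¹) * t = f⁻¹ * e⁻¹ := by
    calc t * (f * e⁻¹) * t = (t * f * t) * (t * e * t)⁻¹ := by
          rw [mul_inv_rev, mul_inv_rev, ht']
          calc t * (f * e⁻¹) * t = t * f * 1 * e⁻¹ * t := by group
            _ = t * f * (t * t) * e⁻¹ * t := by rw [G.t2]
            _ = _ := by group
      _ = _ := by rw [G.tf, G.te]
  have G' : Gens r (r * t) (e * f) (f * e⁻¹) :=
    { t2 := hrt
      r4 := G.r4
      trt := by
        calc r * t * r * (r * t) = r * (t * r * t) * (t * r * t) := by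
              simp only [mul_assoc]
              rw [← mul_assoc t t, G.t2, one_mul]
          _ = r * r⁻¹ * r⁻¹ := by rw [G.trt]
          _ = _ := by group
      e3 := by rw [hef'.mul_pow, G.e3, hf3, one_mul]
      re := by
        rw [← conj_mul, G.re, G.rf]
      rf := by
        rw [← conj_mul, G.rf, ← conj_inv, G.re, mul_inv_rev,
          (hef'.inv_inv).eq]
      te := by
        calc r * t * (e * f) * (r * t) = r * t * (e * f) * (r * t)⁻¹ := by rw [hrt']
          _ = r * (t * (e * f) * t) * r⁻¹ := by rw [mul_inv_rev, ht']; group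
          _ = r * e * r⁻¹ * (r * f * r⁻¹)⁻¹ := by rw [htef]; group
          _ = _ := by rw [G.re, G.rf, inv_inv, hef'.eq]
      tf := by
        calc r * t * (f * e⁻¹) * (r * t) = r * t * (f * e⁻¹) * (r * t)⁻¹ := by rw [hrt']
          _ = r * (t * (f * e⁻¹) * t) * r⁻¹ := by rw [mul_inv_rev, ht']; group
          _ = (r * f * r⁻¹)⁻¹ * (r * e * r⁻¹)⁻¹ := by rw [htfe]; group
          _ = _ := by rw [G.re, G.rf, inv_inv, mul_inv_rev, inv_inv]
      ef := by
        have h : Commute (e * f) (f * e⁻¹) :=
          ((hef'.mul_right (Commute.refl e).inv_right).mul_left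
            ((Commute.refl f).mul_right hef'.symm.inv_right))
        exact h.eq
      gen := by
        rw [eq_top_iff, ← G.gen, closure_le]
        set K := closure ({e * f, f * e⁻¹, r, r * t} : Set S)
        have k1 : e * f ∈ K := subset_closure (by simp)
        have k2 : f * e⁻¹ ∈ K := subset_closure (by simp)
        have k3 : r ∈ K := subset_closure (by simp)
        have k4 : r * t ∈ K := subset_closure (by simp)
        have k5 : e ∈ K := by
          have := inv_mem (mul_mem k1 (inv_mem k2))
          have he : (e * f * (f * e⁻¹)⁻¹)⁻¹ = e := by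
            have : e * f * (f * e⁻¹)⁻¹ = e * e := by
              rw [mul_inv_rev, inv_inv, mul_assoc, ← mul_assoc f, ← hef'.eq]
              group
            rw [this, inv_eq_of_mul_eq_one_right]
            rw [← G.e3]; simp [pow_succ, mul_assoc]
          rwa [he] at this
        have k6 : f ∈ K := by simpa using mul_mem (inv_mem k5) k1
        have k7 : t ∈ K := by simpa using mul_mem (inv_mem k3) k4
        rintro g (rfl | rfl | rfl | rfl)
        · exact k5
        · exact k6
        · exact k3
        · exact k7 }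
  have hB : ∃ m : M, m ≠ 0 ∧ ρ (e * f) m = m := by
    obtain ⟨m, hm0⟩ := exists_ne (0 : M)
    by_contra hno
    push Not at hno hA
    let N : S → M → M := fun g x => x + ρ g x + ρ (g * g) x
    have hN : ∀ g : S, g ^ 3 = 1 → ∀ x, ρ g (N g x) = N g x := by
      intro g hg x
      simp only [N, map_add, ← hm]
      rw [show g * (g * g) = 1 by rw [← hg]; simp [pow_succ, mul_assoc], h1']
      abel
    have z1 : ∀ x, N e x = 0 := fun x => by
      by_contra hx; exact hA _ hx (hN e G.e3 x)
    have z2 : N f m = 0 := by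
      by_contra hx
      refine hA (ρ r⁻¹ (N f m)) (fun h => hx ?_) ?_
      · have := congrArg (ρ r) h
        rwa [← hm, mul_inv_cancel, h1', map_zero] at this
      · rw [← hm, show e * r⁻¹ = r⁻¹ * f by rw [← G.re]; group, hm, hN f hf3]
    have z3 : N (e * f) m = 0 := by
      by_contra hx
      exact hno _ hx (hN _ (by rw [hef'.mul_pow, G.e3, hf3, one_mul]) m)
    have z4 : N (e * (f * f)) m = 0 := by
      by_contra hx
      refine hno (ρ r (N (e * (f * f)) m)) (fun h => hx ?_) ?_
      · have := congrArg (ρ r⁻¹) h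
        rwa [← hm, inv_mul_cancel, h1', map_zero] at this
      · have hff : f * f = f⁻¹ :=
          (inv_eq_of_mul_eq_one_right (by rw [← hf3]; simp [pow_succ, mul_assoc])).symm
        have : e * f * r = r * (e * (f * f)) := by
          rw [hff]
          calc e * f * r = f * e * r := by rw [hef'.eq]
            _ = (r * e * r⁻¹) * (r * f * r⁻¹)⁻¹ * r := by rw [G.re, G.rf, inv_inv]
            _ = _ := by group
        rw [← hm, this, hm, hN _ (by
          rw [(hef'.mul_right hef').mul_pow, G.e3, hff, inv_pow, hf3, inv_one, one_mul]) m]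
    apply hm0
    have hfe : ∀ a b : S, Commute a b → a * b * (a * b) = a * a * (b * b) := fun a b h =>
      h.symm.mul_mul_mul_comm a b
    have hf4 : f * f * (f * f) = f := by
      calc f * f * (f * f) = f ^ 3 * f := by simp [pow_succ, mul_assoc]
        _ = f := by rw [hf3, one_mul]
    have key : N e m + N f m + N (e * f) m + N (e * (f * f)) m = m + m + m + N e (N f m) := by
      simp only [N, hfe e f hef', hfe e (f * f) (hef'.mul_right hef'), hf4]
      simp only [map_add, ← hm, mul_assoc]
      abel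
    rw [z2, z3, z4, z1 m, z1 0, add_zero, add_zero, add_zero, add_zero, add_self_zero, zero_add] at key
    exact key.symm
  have hfix' : ∀ m : M, ρ (e * f) m = m → ρ (f * e⁻¹) m = m → m = 0 := by
    intro m k1 k2
    have he : ρ (e * e) m = m := by
      have k2' : ρ (f * e⁻¹)⁻¹ m = m := by
        conv_lhs => rw [← k2]
        rw [← hm, inv_mul_cancel, h1']
      have : e * e = e * f * (f * e⁻¹)⁻¹ := by
        rw [mul_inv_rev, inv_inv, mul_assoc, ← mul_assoc f, ← hef'.eq]
        group
      rw [this, hm, k2', k1]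
    have he1 : ρ e m = m := by
      conv_lhs => rw [← he]
      rw [← hm, show e * (e * e) = 1 by rw [← G.e3]; simp [pow_succ, mul_assoc], h1']
    refine hfix m he1 ?_
    conv_lhs => rw [← he1]
    rw [← hm, ← hef'.eq, k1]
  obtain ⟨h1, h2, h3⟩ := core ρ G' hirr hfix' hB
  refine ⟨h1, Or.inr ⟨?_, h2⟩⟩
  refine Eq.trans ?_ h3
  refine Nat.card_congr (Equiv.subtypeEquivRight fun m => ?_)
  rw [← mul_assoc, hm (r * r) t]
  refine ⟨fun ⟨a, b⟩ => ⟨by rw [a, b], b⟩, fun ⟨a, b⟩ => ⟨?_, b⟩⟩
  have := congrArg (ρ (r * r)) a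
  rwa [← hm (r * r) (r * r), G.r4, h1', b] at this

end Cfsg.Agent.Lib.NineDihedral
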